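import Cfsg.Agent.Lib.BN.MinRep
import Mathlib.Data.Matrix.Basis
import Mathlib.LinearAlgebra.Matrix.NonsingularInverse
import Mathlib.LinearAlgebra.Matrix.ToLin

/-!
# The Hecke algebra of an exchange system

The left and right regular operators with parameter `t` as matrices indexed by the group; the algebra
is the commutant of the right operators, and an element of it is determined by its first column.
-/

set_option autoImplicit false

namespace CfsgLib.HeckeW

open CfsgLib.BN
open scoped Matrix

variable {W ι : Type*} [Group W] [Fintype W] [DecidableEq W] (E : ExchSys W ι)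
variable {k : Type*} [Field k]

local notation "ℓ" => wlen E.f

theorem not_le_iff (i : ι) (w : W) : ¬ ℓ (E.f i * w) ≤ ℓ w ↔ ℓ (E.f i * w) = ℓ w + 1 :=
  ⟨E.gt_of_not_le, fun h => by omega⟩

theorem left_cases (i : ι) (w : W) : ℓ (E.f i * w) = ℓ w + 1 ∨ ℓ (E.f i * w) + 1 = ℓ w := by
  by_cases h : ℓ (E.f i * w) ≤ ℓ w
  · exact Or.inr (E.lt_of_le h)
  · exact Or.inl (E.gt_of_not_le h)

theorem right_cases (i : ι) (w : W) : ℓ (w * E.f i) = ℓ w + 1 ∨ ℓ (w * E.f i) + 1 = ℓ w := by
  have h := left_cases E i w⁻¹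
  rwa [show E.f i * w⁻¹ = (w * E.f i)⁻¹ by rw [mul_inv_rev, E.inv_f], E.wlen_inv, E.wlen_inv] at h

theorem eq_of_up {i j : ι} {w : W} (h1 : ℓ (E.f i * w) = ℓ w + 1) (h2 : ℓ (w * E.f j) = ℓ w + 1)
    (h3 : ℓ (E.f i * w * E.f j) = ℓ w) : E.f i * w = w * E.f j := by
  obtain ⟨a, ha, hlen⟩ := exists_reduced E.gen w
  have hp : ((a.reverse ++ [i]).map E.f).prod = (E.f i * w)⁻¹ := by
    rw [List.map_append, List.prod_append, E.prod_reverse, ha, mul_inv_rev, E.inv_f]
    simp
  have he : E.f j * (E.f i * w)⁻¹ = (E.f i * w * E.f j)⁻¹ := by rw [mul_inv_rev (_ * _), E.inv_f]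
  obtain ⟨m, hm, hm'⟩ := E.exch j (a.reverse ++ [i]) (by
    rw [hp, he, E.wlen_inv, E.wlen_inv, h1, h3]
    omega)
  rw [hp, mul_inv_rev, E.inv_f] at hm'
  rcases Nat.lt_or_ge m a.reverse.length with hlt | hge
  · exfalso
    rw [List.eraseIdx_append_of_lt_length hlt, List.map_append, List.prod_append,
      show (([i] : List ι).map E.f).prod = E.f i by simp, ← mul_assoc] at hm'
    have h4 := wlen_le_of_eq E.f (mul_right_cancel hm').symm
    rw [List.length_eraseIdx_of_lt hlt, List.length_reverse,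
      show E.f j * w⁻¹ = (w * E.f j)⁻¹ by rw [mul_inv_rev, E.inv_f], E.wlen_inv] at h4
    omega
  · have hm2 : m = a.reverse.length := by
      simp only [List.length_append, List.length_singleton] at hm
      omega
    rw [hm2, List.eraseIdx_append_of_length_le le_rfl, Nat.sub_self, List.eraseIdx_cons_zero,
      List.append_nil, E.prod_reverse, ha] at hm'
    have h5 : E.f i * w * E.f j = w := inv_injective (by
      rw [mul_inv_rev, mul_inv_rev, E.inv_f, E.inv_f]; exact hm')
    calc E.f i * w = E.f i * w * E.f j * E.f j := by rw [mul_assoc _ (E.f j), E.sq, mul_one]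
      _ = w * E.f j := by rw [h5]

theorem eq_of_square {i j : ι} {w : W} (h2 : ℓ (E.f i * w) = ℓ (w * E.f j))
    (h3 : ℓ (E.f i * w * E.f j) = ℓ w) : E.f i * w = w * E.f j := by
  rcases left_cases E i w with h | h
  · exact eq_of_up E h (by omega) h3
  · have e : E.f i * (E.f i * w) = w := E.mul_cancel i w
    have := eq_of_up E (i := i) (j := j) (w := E.f i * w) (by rw [e]; omega) (by omega)
      (by rw [e]; omega)
    rw [e] at this
    conv_rhs => rw [this]
    rw [mul_assoc _ (E.f j), E.sq, mul_one]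

/-- The image of a basis vector under a left operator. -/
noncomputable def lvec (t : k) (i : ι) (w : W) : W → k :=
  if ℓ (E.f i * w) ≤ ℓ w then t • Pi.single (E.f i * w) 1 + (t - 1) • Pi.single w 1
  else Pi.single (E.f i * w) 1

/-- The image of a basis vector under a right operator. -/
noncomputable def rvec (t : k) (i : ι) (w : W) : W → k :=
  if ℓ (w * E.f i) ≤ ℓ w then t • Pi.single (w * E.f i) 1 + (t - 1) • Pi.single w 1
  else Pi.single (w * E.f i) 1

/-- The left operator of a generator. -/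
noncomputable def Lm (t : k) (i : ι) : Matrix W W k := Matrix.of fun a b => lvec E t i b a

/-- The right operator of a generator. -/
noncomputable def Rm (t : k) (i : ι) : Matrix W W k := Matrix.of fun a b => rvec E t i b a

variable {E} {t : k}

theorem Lm_single (i : ι) (w : W) : Lm E t i *ᵥ Pi.single w 1 = lvec E t i w := by
  funext a
  rw [Matrix.mulVec_single_one]
  rfl

theorem Rm_single (i : ι) (w : W) : Rm E t i *ᵥ Pi.single w 1 = rvec E t i w := by
  funext a
  rw [Matrix.mulVec_single_one]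
  rfl

theorem lvec_up {i : ι} {w : W} (h : ℓ (E.f i * w) = ℓ w + 1) :
    lvec E t i w = Pi.single (E.f i * w) 1 := by rw [lvec, if_neg (by omega)]

theorem lvec_down {i : ι} {w : W} (h : ℓ (E.f i * w) + 1 = ℓ w) :
    lvec E t i w = t • Pi.single (E.f i * w) 1 + (t - 1) • Pi.single w 1 := by
  rw [lvec, if_pos (by omega)]

theorem rvec_up {i : ι} {w : W} (h : ℓ (w * E.f i) = ℓ w + 1) :
    rvec E t i w = Pi.single (w * E.f i) 1 := by rw [rvec, if_neg (by omega)]

theorem rvec_down {i : ι} {w : W} (h : ℓ (w * E.f i) + 1 = ℓ w) :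
    rvec E t i w = t • Pi.single (w * E.f i) 1 + (t - 1) • Pi.single w 1 := by
  rw [rvec, if_pos (by omega)]

theorem ext_single {A B : Matrix W W k} (h : ∀ w, A *ᵥ Pi.single w 1 = B *ᵥ Pi.single w 1) :
    A = B := by
  ext a b
  have := congrFun (h b) a
  rwa [Matrix.mulVec_single_one, Matrix.mulVec_single_one] at this

/-- The left and right operators commute. -/
theorem Lm_comm_Rm (i j : ι) : Lm E t i * Rm E t j = Rm E t j * Lm E t i := by
  refine ext_single fun w => ?_
  rw [← Matrix.mulVec_mulVec, ← Matrix.mulVec_mulVec, Lm_single, Rm_single]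
  by_cases heq : E.f i * w = w * E.f j
  · rcases left_cases E i w with hl | hl
    · have hr : ℓ (w * E.f j) = ℓ w + 1 := heq ▸ hl
      have hb : ℓ (E.f i * (w * E.f j)) + 1 = ℓ (w * E.f j) := by
        rw [← heq, E.mul_cancel]; omega
      have ha : ℓ (E.f i * w * E.f j) + 1 = ℓ (E.f i * w) := by
        rw [heq, mul_assoc w, E.sq, mul_one]; omega
      rw [rvec_up hr, lvec_up hl, Lm_single, Rm_single, lvec_down hb, rvec_down ha, mul_assoc]
      simp only [heq]
    · have hr : ℓ (w * E.f j) + 1 = ℓ w := heq ▸ hl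
      have hb : ℓ (E.f i * (w * E.f j)) = ℓ (w * E.f j) + 1 := by
        rw [← heq, E.mul_cancel]; omega
      have ha : ℓ (E.f i * w * E.f j) = ℓ (E.f i * w) + 1 := by
        rw [heq, mul_assoc w, E.sq, mul_one]; omega
      rw [rvec_down hr, lvec_down hl]
      simp only [Matrix.mulVec_add, Matrix.mulVec_smul, Lm_single, Rm_single, lvec_up hb,
        rvec_up ha, lvec_down hl, rvec_down hr]
      rw [← mul_assoc (E.f i), heq]
  · have hA := right_cases E j (E.f i * w)
    have hB := left_cases E i (w * E.f j)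
    rw [← mul_assoc] at hB
    rcases left_cases E i w with hl | hl <;> rcases right_cases E j w with hr | hr
    · have hne : ℓ (E.f i * w * E.f j) ≠ ℓ w := fun h => heq (eq_of_square E (by omega) h)
      have ha : ℓ (E.f i * w * E.f j) = ℓ (E.f i * w) + 1 := by omega
      have hb : ℓ (E.f i * (w * E.f j)) = ℓ (w * E.f j) + 1 := by rw [← mul_assoc]; omega
      rw [rvec_up hr, lvec_up hl, Lm_single, Rm_single, lvec_up hb, rvec_up ha, mul_assoc]
    · have ha : ℓ (E.f i * w * E.f j) + 1 = ℓ (E.f i * w) := by omega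
      have hb : ℓ (E.f i * (w * E.f j)) = ℓ (w * E.f j) + 1 := by rw [← mul_assoc]; omega
      rw [rvec_down hr, lvec_up hl, Rm_single]
      simp only [Matrix.mulVec_add, Matrix.mulVec_smul, Lm_single, lvec_up hb, lvec_up hl,
        rvec_down ha, mul_assoc]
    · have ha : ℓ (E.f i * w * E.f j) = ℓ (E.f i * w) + 1 := by omega
      have hb : ℓ (E.f i * (w * E.f j)) + 1 = ℓ (w * E.f j) := by rw [← mul_assoc]; omega
      rw [rvec_up hr, lvec_down hl, Lm_single]
      simp only [Matrix.mulVec_add, Matrix.mulVec_smul, Rm_single, rvec_up ha, rvec_up hr,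
        lvec_down hb, mul_assoc]
    · have hne : ℓ (E.f i * w * E.f j) ≠ ℓ w := fun h => heq (eq_of_square E (by omega) h)
      have ha : ℓ (E.f i * w * E.f j) + 1 = ℓ (E.f i * w) := by omega
      have hb : ℓ (E.f i * (w * E.f j)) + 1 = ℓ (w * E.f j) := by rw [← mul_assoc]; omega
      rw [rvec_down hr, lvec_down hl]
      simp only [Matrix.mulVec_add, Matrix.mulVec_smul, Lm_single, Rm_single, lvec_down hb,
        rvec_down ha, lvec_down hl, rvec_down hr, mul_assoc]
      module

variable (E t)

/-- The commutant of the right operators. -/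
noncomputable def H : Subalgebra k (Matrix W W k) := Subalgebra.centralizer k (Set.range (Rm E t))

/-- A chosen reduced word. -/
noncomputable def rword (w : W) : List ι := (exists_reduced E.gen w).choose

theorem rword_prod (w : W) : ((rword E w).map E.f).prod = w :=
  (exists_reduced E.gen w).choose_spec.1

theorem rword_length (w : W) : (rword E w).length = ℓ w :=
  (exists_reduced E.gen w).choose_spec.2

/-- The standard basis element of the algebra. -/
noncomputable def Tm (w : W) : Matrix W W k := ((rword E w).map (Lm E t)).prod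

/-- The element of the algebra with a given first column. -/
noncomputable def TT : (W → k) →ₗ[k] Matrix W W k :=
  Fintype.linearCombination k (Tm E t)

/-- The first column. -/
noncomputable def col (x : Matrix W W k) : W → k := x *ᵥ Pi.single 1 1

variable {E t}

theorem mem_H_iff {x : Matrix W W k} : x ∈ H E t ↔ ∀ j, Rm E t j * x = x * Rm E t j := by
  rw [H, Subalgebra.mem_centralizer_iff]
  exact ⟨fun h j => h _ ⟨j, rfl⟩, fun h g ⟨j, hj⟩ => hj ▸ h j⟩

theorem Lm_mem_H (i : ι) : Lm E t i ∈ H E t := mem_H_iff.2 fun j => (Lm_comm_Rm i j).symm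

theorem word_mem_H (l : List ι) : (l.map (Lm E t)).prod ∈ H E t :=
  Subalgebra.list_prod_mem _ fun x hx => by
    obtain ⟨i, -, rfl⟩ := List.mem_map.1 hx
    exact Lm_mem_H i

theorem Tm_mem_H (w : W) : Tm E t w ∈ H E t := word_mem_H _

theorem reduced_cons {i : ι} {l : List ι} (h : (i :: l).length = ℓ ((i :: l).map E.f).prod) :
    l.length = ℓ (l.map E.f).prod ∧
      ℓ (E.f i * (l.map E.f).prod) = ℓ (l.map E.f).prod + 1 := by
  simp only [List.map_cons, List.prod_cons, List.length_cons] at h
  have h1 := wlen_le E.f l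
  rcases left_cases E i (l.map E.f).prod with h2 | h2 <;> omega

theorem word_col : ∀ l : List ι, l.length = ℓ (l.map E.f).prod →
    col (l.map (Lm E t)).prod = Pi.single (l.map E.f).prod 1
  | [], _ => by rw [col, List.map_nil, List.prod_nil, Matrix.one_mulVec]; rfl
  | i :: l, h => by
    obtain ⟨h1, h2⟩ := reduced_cons h
    rw [List.map_cons, List.prod_cons, col, ← Matrix.mulVec_mulVec]
    show Lm E t i *ᵥ col (l.map (Lm E t)).prod = _
    rw [word_col l h1, Lm_single, lvec_up h2, List.map_cons, List.prod_cons]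

theorem col_Tm (w : W) : col (Tm E t w) = Pi.single w 1 := by
  rw [Tm, word_col _ (by rw [rword_length, rword_prod]), rword_prod]

/-- An element of the algebra is determined by its first column. -/
theorem eq_of_col {x y : Matrix W W k} (hx : x ∈ H E t) (hy : y ∈ H E t) (h : col x = col y) :
    x = y := by
  have key : ∀ l : List ι, l.length = ℓ (l.map E.f).prod →
      x *ᵥ Pi.single (l.map E.f).prod⁻¹ 1 = y *ᵥ Pi.single (l.map E.f).prod⁻¹ 1 := by
    intro l
    induction l with
    | nil => intro _; simpa [col] using h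
    | cons i l ih =>
      intro hl
      obtain ⟨h1, h2⟩ := reduced_cons hl
      have h3 : ℓ ((l.map E.f).prod⁻¹ * E.f i) = ℓ (l.map E.f).prod⁻¹ + 1 := by
        rw [← E.inv_f i, ← mul_inv_rev, E.wlen_inv, E.wlen_inv, h2]
      rw [List.map_cons, List.prod_cons, mul_inv_rev, E.inv_f, ← rvec_up (t := t) h3, ← Rm_single,
        Matrix.mulVec_mulVec, Matrix.mulVec_mulVec, ← mem_H_iff.1 hx, ← mem_H_iff.1 hy,
        ← Matrix.mulVec_mulVec, ← Matrix.mulVec_mulVec, ih h1]
  refine ext_single fun w => ?_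
  have h1 := key (rword E w⁻¹) (by rw [rword_length, rword_prod])
  rwa [rword_prod, inv_inv] at h1

/-- Any reduced word gives the basis element. -/
theorem word_eq_Tm {l : List ι} (h : l.length = ℓ (l.map E.f).prod) :
    (l.map (Lm E t)).prod = Tm E t (l.map E.f).prod :=
  eq_of_col (word_mem_H l) (Tm_mem_H _) (by rw [word_col l h, col_Tm])

theorem Tm_one : Tm E t 1 = 1 :=
  (word_eq_Tm (l := []) (by simp [wlen_one])).symm

theorem col_mul (x y : Matrix W W k) : col (x * y) = x *ᵥ col y := by
  rw [col, col, Matrix.mulVec_mulVec]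

theorem Lm_mul_Tm_up {i : ι} {w : W} (h : ℓ (E.f i * w) = ℓ w + 1) :
    Lm E t i * Tm E t w = Tm E t (E.f i * w) :=
  eq_of_col (mul_mem (Lm_mem_H i) (Tm_mem_H w)) (Tm_mem_H _) (by
    rw [col_mul, col_Tm, Lm_single, lvec_up h, col_Tm])

theorem col_add (x y : Matrix W W k) : col (x + y) = col x + col y := Matrix.add_mulVec _ _ _

theorem col_smul (c : k) (x : Matrix W W k) : col (c • x) = c • col x := Matrix.smul_mulVec _ _ _

theorem Lm_mul_Tm_down {i : ι} {w : W} (h : ℓ (E.f i * w) + 1 = ℓ w) :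
    Lm E t i * Tm E t w = t • Tm E t (E.f i * w) + (t - 1) • Tm E t w :=
  eq_of_col (mul_mem (Lm_mem_H i) (Tm_mem_H w))
    (add_mem (Subalgebra.smul_mem _ (Tm_mem_H _) _) (Subalgebra.smul_mem _ (Tm_mem_H _) _)) (by
    rw [col_mul, col_Tm, Lm_single, lvec_down h, col_add, col_smul, col_smul, col_Tm, col_Tm])

theorem mulVec_single_of_mem {x : Matrix W W k} (hx : x ∈ H E t) (i : ι) :
    x *ᵥ Pi.single (E.f i) 1 = Rm E t i *ᵥ col x := by
  rw [← col_mul, mem_H_iff.1 hx, col_mul, col, Rm_single, rvec_up (by simp [wlen_one, E.wlen_f]),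
    one_mul]

theorem col_Lm (i : ι) : col (Lm E t i) = Pi.single (E.f i) 1 := by
  rw [col, Lm_single, lvec_up (by simp [wlen_one, E.wlen_f]), mul_one]

theorem Tm_mul_Lm_up {i : ι} {w : W} (h : ℓ (w * E.f i) = ℓ w + 1) :
    Tm E t w * Lm E t i = Tm E t (w * E.f i) :=
  eq_of_col (mul_mem (Tm_mem_H w) (Lm_mem_H i)) (Tm_mem_H _) (by
    rw [col_mul, col_Lm, mulVec_single_of_mem (Tm_mem_H w), col_Tm, Rm_single, rvec_up h, col_Tm])

theorem Tm_mul_Lm_down {i : ι} {w : W} (h : ℓ (w * E.f i) + 1 = ℓ w) :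
    Tm E t w * Lm E t i = t • Tm E t (w * E.f i) + (t - 1) • Tm E t w :=
  eq_of_col (mul_mem (Tm_mem_H w) (Lm_mem_H i))
    (add_mem (Subalgebra.smul_mem _ (Tm_mem_H _) _) (Subalgebra.smul_mem _ (Tm_mem_H _) _)) (by
    rw [col_mul, col_Lm, mulVec_single_of_mem (Tm_mem_H w), col_Tm, Rm_single, rvec_down h, col_add,
      col_smul, col_smul, col_Tm, col_Tm])

theorem TT_apply (f : W → k) : TT E t f = ∑ w, f w • Tm E t w :=
  Fintype.linearCombination_apply k (Tm E t) f

theorem TT_mem_H (f : W → k) : TT E t f ∈ H E t := by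
  rw [TT_apply]
  exact sum_mem fun w _ => Subalgebra.smul_mem _ (Tm_mem_H w) _

theorem col_TT (f : W → k) : col (TT E t f) = f := by
  rw [TT_apply, col, Matrix.sum_mulVec]
  simp only [Matrix.smul_mulVec, show ∀ w, Tm E t w *ᵥ Pi.single 1 1 = Pi.single w 1 from col_Tm]
  exact (pi_eq_sum_univ' f).symm

theorem TT_col {x : Matrix W W k} (hx : x ∈ H E t) : TT E t (col x) = x :=
  eq_of_col (TT_mem_H _) hx (col_TT _)

end CfsgLib.HeckeW
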