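import Cfsg.Agent.Lib.HeckeW.Basic
import Mathlib.LinearAlgebra.Trace
import Mathlib.Topology.Instances.Matrix
import Mathlib.Topology.Order.IntermediateValue
import Mathlib.GroupTheory.GroupAction.CardCommute
import Mathlib.Analysis.Complex.Basic

/-!
# The centre of the Hecke algebra

The averaging map gives a projection onto the centre; its trace is continuous in the parameter and
integral, so it is the number of conjugacy classes.
-/

set_option autoImplicit false

namespace CfsgLib.HeckeW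

open CfsgLib.BN
open scoped Matrix

variable {W ι : Type*} [Group W] [Fintype W] [DecidableEq W] (E : ExchSys W ι)
variable {k : Type*} [Field k] (t : k)

local notation "ℓ" => wlen E.f

/-- The Casimir averaging map. -/
noncomputable def Gam (x : Matrix W W k) : Matrix W W k :=
  ∑ w, t⁻¹ ^ ℓ w • (Tm E t w * x * Tm E t w⁻¹)

/-- The Casimir element. -/
noncomputable def Cm : Matrix W W k := ∑ w, t⁻¹ ^ ℓ w • (Tm E t w * Tm E t w⁻¹)

/-- The averaging map on first columns. -/
noncomputable def Gmat : Matrix W W k := Matrix.of fun a v => Gam E t (Tm E t v) a 1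

/-- The projection onto the centre, on first columns. -/
noncomputable def Pm : Matrix W W k := (Cm E t)⁻¹ * Gmat E t

/-- The centre, on first columns. -/
noncomputable def Zsub : Submodule k (W → k) where
  carrier := {f | ∀ i, Lm E t i * TT E t f = TT E t f * Lm E t i}
  add_mem' := fun {f g} hf hg i => by simp only [map_add, mul_add, add_mul, hf i, hg i]
  zero_mem' := fun i => by simp
  smul_mem' := fun c f hf i => by simp only [map_smul, mul_smul_comm, smul_mul_assoc, hf i]

variable {E t}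

theorem Gam_one : Gam E t 1 = Cm E t := by simp [Gam, Cm]

theorem Gam_mem_H {x : Matrix W W k} (hx : x ∈ H E t) : Gam E t x ∈ H E t :=
  sum_mem fun w _ => Subalgebra.smul_mem _ (mul_mem (mul_mem (Tm_mem_H w) hx) (Tm_mem_H _)) _

theorem Cm_mem_H : Cm E t ∈ H E t := Gam_one (E := E) (t := t) ▸ Gam_mem_H (one_mem _)

theorem Gam_comm (ht : t ≠ 0) (x : Matrix W W k) (i : ι) :
    Lm E t i * Gam E t x = Gam E t x * Lm E t i := by
  rw [← sub_eq_zero, Gam, Finset.mul_sum, Finset.sum_mul, ← Finset.sum_sub_distrib]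
  refine Finset.sum_involution (fun w _ => E.f i * w) (fun w _ => ?_) (fun w _ _ h => E.ne_one i ?_)
    (fun w _ => Finset.mem_univ _) (fun w _ => E.mul_cancel i w)
  · have key : ∀ w, ℓ (E.f i * w) = ℓ w + 1 →
        (Lm E t i * (t⁻¹ ^ ℓ w • (Tm E t w * x * Tm E t w⁻¹)) -
            t⁻¹ ^ ℓ w • (Tm E t w * x * Tm E t w⁻¹) * Lm E t i) +
          (Lm E t i * (t⁻¹ ^ ℓ (E.f i * w) •
              (Tm E t (E.f i * w) * x * Tm E t (E.f i * w)⁻¹)) -
            t⁻¹ ^ ℓ (E.f i * w) •
              (Tm E t (E.f i * w) * x * Tm E t (E.f i * w)⁻¹) * Lm E t i) = 0 := by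
      intro w h
      have hv : (E.f i * w)⁻¹ = w⁻¹ * E.f i := by rw [mul_inv_rev, E.inv_f]
      have h1 : Lm E t i * Tm E t w = Tm E t (E.f i * w) := Lm_mul_Tm_up h
      have h2 : Tm E t w⁻¹ * Lm E t i = Tm E t (E.f i * w)⁻¹ := by
        rw [hv]
        refine Tm_mul_Lm_up ?_
        rw [← hv, E.wlen_inv, E.wlen_inv, h]
      have h3 : Lm E t i * Tm E t (E.f i * w) =
          t • Tm E t w + (t - 1) • Tm E t (E.f i * w) := by
        rw [Lm_mul_Tm_down (by rw [E.mul_cancel, h]), E.mul_cancel]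
      have h4 : Tm E t (E.f i * w)⁻¹ * Lm E t i =
          t • Tm E t w⁻¹ + (t - 1) • Tm E t (E.f i * w)⁻¹ := by
        rw [hv, Tm_mul_Lm_down (by
          rw [mul_assoc, E.sq, mul_one, ← hv, E.wlen_inv, E.wlen_inv, h]), mul_assoc, E.sq, mul_one]
      have hp : t⁻¹ ^ ℓ w = t * t⁻¹ ^ ℓ (E.f i * w) := by
        rw [h, pow_succ, mul_comm (t⁻¹ ^ ℓ w), ← mul_assoc, mul_inv_cancel₀ ht, one_mul]
      simp only [mul_smul_comm, smul_mul_assoc, ← mul_assoc, h1, h3]
      simp only [mul_assoc, h2, h4]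
      simp only [mul_add, add_mul, mul_smul_comm, smul_mul_assoc, hp]
      module
    rcases left_cases E i w with h | h
    · exact key w h
    · have h' := key (E.f i * w) (by rw [E.mul_cancel, h])
      rw [E.mul_cancel] at h'
      rw [add_comm]
      exact h'
  · exact mul_eq_right.1 h

theorem inv_comm {A X : Matrix W W k} (hA : IsUnit A.det) (h : X * A = A * X) :
    X * A⁻¹ = A⁻¹ * X := by
  calc X * A⁻¹ = A⁻¹ * A * X * A⁻¹ := by rw [Matrix.nonsing_inv_mul A hA, one_mul]
    _ = A⁻¹ * (X * A) * A⁻¹ := by rw [h, mul_assoc A⁻¹ A X]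
    _ = A⁻¹ * X := by rw [mul_assoc, mul_assoc X, Matrix.mul_nonsing_inv A hA, mul_one]

theorem inv_mem_H (hC : IsUnit (Cm E t).det) : (Cm E t)⁻¹ ∈ H E t :=
  mem_H_iff.2 fun j => inv_comm hC (mem_H_iff.1 Cm_mem_H j)

theorem Gmat_mulVec (f : W → k) : Gmat E t *ᵥ f = col (Gam E t (TT E t f)) := by
  funext a
  rw [col, Matrix.mulVec_single_one, TT_apply, Gam]
  simp only [Finset.mul_sum, Finset.sum_mul, mul_smul_comm, smul_mul_assoc, Finset.smul_sum,
    Matrix.col_apply, Matrix.sum_apply, Matrix.smul_apply, smul_eq_mul]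
  rw [Finset.sum_comm]
  simp only [Matrix.mulVec, dotProduct, Gmat, Matrix.of_apply, Gam, Matrix.sum_apply,
    Matrix.smul_apply, smul_eq_mul, Finset.sum_mul]
  exact Finset.sum_congr rfl fun v _ => Finset.sum_congr rfl fun w _ => by ring

theorem Pm_mulVec (f : W → k) : Pm E t *ᵥ f = col ((Cm E t)⁻¹ * Gam E t (TT E t f)) := by
  rw [Pm, ← Matrix.mulVec_mulVec, Gmat_mulVec, col_mul]

theorem comm_Tm {x : Matrix W W k} (h : ∀ i, Lm E t i * x = x * Lm E t i) (w : W) :
    Tm E t w * x = x * Tm E t w := by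
  rw [Tm]
  induction rword E w with
  | nil => simp
  | cons i l ih => rw [List.map_cons, List.prod_cons, mul_assoc, ih, ← mul_assoc, h i, mul_assoc]

theorem Gam_of_central {x : Matrix W W k} (h : ∀ i, Lm E t i * x = x * Lm E t i) :
    Gam E t x = Cm E t * x := by
  rw [Gam, Cm, Finset.sum_mul]
  refine Finset.sum_congr rfl fun w _ => ?_
  rw [smul_mul_assoc, mul_assoc, mul_assoc, comm_Tm h w⁻¹]

theorem isProj_Pm (ht : t ≠ 0) (hC : IsUnit (Cm E t).det) :
    LinearMap.IsProj (Zsub E t) (Matrix.toLin' (Pm E t)) := by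
  refine ⟨fun f i => ?_, fun f hf => ?_⟩
  · rw [Matrix.toLin'_apply, Pm_mulVec,
      TT_col (mul_mem (inv_mem_H hC) (Gam_mem_H (TT_mem_H f)))]
    have h1 : Lm E t i * Cm E t = Cm E t * Lm E t i := by
      rw [← Gam_one]; exact Gam_comm ht 1 i
    rw [← mul_assoc, inv_comm hC h1, mul_assoc, Gam_comm ht, mul_assoc]
  · rw [Matrix.toLin'_apply, Pm_mulVec, Gam_of_central hf, ← mul_assoc,
      Matrix.nonsing_inv_mul _ hC, one_mul, col_TT]

theorem trace_Pm (ht : t ≠ 0) (hC : IsUnit (Cm E t).det) :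
    (Pm E t).trace = (Module.finrank k (Zsub E t) : k) := by
  rw [← Matrix.trace_toLin'_eq, (isProj_Pm ht hC).trace]

section Map

variable {k' : Type*} [Field k'] (φ : k →+* k')

theorem map_Lm (i : ι) : φ.mapMatrix (Lm E t i) = Lm E (φ t) i := by
  ext a b
  simp only [RingHom.mapMatrix_apply, Matrix.map_apply, Lm, Matrix.of_apply, lvec]
  split <;> simp [Pi.single_apply, apply_ite φ]

theorem map_Tm (w : W) : φ.mapMatrix (Tm E t w) = Tm E (φ t) w := by
  rw [Tm, Tm, map_list_prod, List.map_map]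
  exact congrArg List.prod (List.map_congr_left fun i _ => map_Lm φ i)

theorem map_smul_matrix (c : k) (x : Matrix W W k) :
    φ.mapMatrix (c • x) = φ c • φ.mapMatrix x := by
  ext a b
  simp

theorem map_Cm : φ.mapMatrix (Cm E t) = Cm E (φ t) := by
  rw [Cm, Cm, map_sum]
  exact Finset.sum_congr rfl fun w _ => by
    rw [map_smul_matrix, map_mul, map_Tm, map_Tm, map_pow, map_inv₀]

theorem map_Gmat : φ.mapMatrix (Gmat E t) = Gmat E (φ t) := by
  ext a v
  show φ (Gam E t (Tm E t v) a 1) = Gam E (φ t) (Tm E (φ t) v) a 1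
  rw [show φ (Gam E t (Tm E t v) a 1) = φ.mapMatrix (Gam E t (Tm E t v)) a 1 from rfl, Gam, map_sum]
  simp only [map_smul_matrix, map_mul, map_Tm, map_pow, map_inv₀]
  rfl

theorem trace_Pm_map (hC : IsUnit (Cm E t).det) : (Pm E (φ t)).trace = φ (Pm E t).trace := by
  have h : (Cm E (φ t))⁻¹ = φ.mapMatrix (Cm E t)⁻¹ := by
    refine Matrix.inv_eq_left_inv ?_
    rw [← map_Cm, ← map_mul, Matrix.nonsing_inv_mul _ hC, map_one]
  rw [Pm, Pm, h, ← map_Gmat, ← map_mul, RingHom.mapMatrix_apply, Matrix.trace, Matrix.trace, map_sum]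
  rfl

end Map

section Real

variable {t : ℝ}

theorem adjoint_Lm (i : ι) :
    Matrix.diagonal (fun w => t ^ ℓ w) * Lm E t i =
      (Lm E t i)ᵀ * Matrix.diagonal (fun w => t ^ ℓ w) := by
  ext a b
  rw [Matrix.diagonal_mul, Matrix.mul_diagonal, Matrix.transpose_apply]
  simp only [Lm, Matrix.of_apply]
  by_cases hab : a = b
  · subst hab; ring
  by_cases h1 : E.f i * b = a
  · subst h1
    rcases left_cases E i b with h | h
    · rw [lvec_up h, lvec_down (w := E.f i * b) (by rw [E.mul_cancel, h]), E.mul_cancel]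
      simp [Ne.symm hab, h, pow_succ, mul_comm]
    · rw [lvec_down h, lvec_up (w := E.f i * b) (by rw [E.mul_cancel, h]), E.mul_cancel]
      simp [hab, ← h, pow_succ]
  · have h2 : E.f i * a ≠ b := fun h => h1 (by rw [← h, E.mul_cancel])
    simp only [lvec]
    split <;> split <;> simp [hab, Ne.symm hab, Ne.symm h1, Ne.symm h2]

theorem adjoint_word : ∀ l : List ι,
    Matrix.diagonal (fun w => t ^ ℓ w) * (l.map (Lm E t)).prod =
      ((l.reverse.map (Lm E t)).prod)ᵀ * Matrix.diagonal (fun w => t ^ ℓ w)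
  | [] => by simp
  | i :: l => by
    rw [List.map_cons, List.prod_cons, ← mul_assoc, adjoint_Lm, mul_assoc, adjoint_word l,
      List.reverse_cons, List.map_append, List.prod_append, ← mul_assoc]
    simp [Matrix.transpose_mul]

theorem adjoint_Tm (w : W) :
    Matrix.diagonal (fun w => t ^ ℓ w) * Tm E t w =
      (Tm E t w⁻¹)ᵀ * Matrix.diagonal (fun w => t ^ ℓ w) := by
  have h : ((rword E w).reverse.map (Lm E t)).prod = Tm E t w⁻¹ := by
    rw [word_eq_Tm (by rw [List.length_reverse, E.prod_reverse, rword_prod, E.wlen_inv, rword_length]),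
      E.prod_reverse, rword_prod]
  rw [← h]
  exact adjoint_word _

theorem isUnit_det_Cm (ht : 0 < t) : IsUnit (Cm E t).det := by
  rw [← Matrix.isUnit_iff_isUnit_det, ← Matrix.mulVec_injective_iff_isUnit]
  intro f g hfg
  rw [← sub_eq_zero]
  set u := f - g
  have hu : Cm E t *ᵥ u = 0 := by simp only [u, Matrix.mulVec_sub]; rw [sub_eq_zero]; exact hfg
  set D : Matrix W W ℝ := Matrix.diagonal fun w => t ^ ℓ w
  have hterm : ∀ w, u ⬝ᵥ (D * (Tm E t w * Tm E t w⁻¹)) *ᵥ u =
      ∑ a, t ^ ℓ a * (Tm E t w⁻¹ *ᵥ u) a ^ 2 := fun w => by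
    rw [← mul_assoc, adjoint_Tm, ← Matrix.mulVec_mulVec, ← Matrix.mulVec_mulVec,
      Matrix.dotProduct_mulVec, Matrix.vecMul_transpose]
    simp only [dotProduct, Matrix.mulVec_diagonal]
    exact Finset.sum_congr rfl fun a _ => by ring
  have h0 : ∑ w, t⁻¹ ^ ℓ w * (u ⬝ᵥ (D * (Tm E t w * Tm E t w⁻¹)) *ᵥ u) = 0 := by
    have h := congrArg (fun v => u ⬝ᵥ D *ᵥ v) hu
    simp only [Matrix.mulVec_zero, dotProduct_zero, Cm, Matrix.sum_mulVec, Matrix.smul_mulVec,
      Matrix.mulVec_sum, Matrix.mulVec_smul, Matrix.mulVec_mulVec, dotProduct_sum, dotProduct_smul,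
      smul_eq_mul] at h
    exact h
  simp only [hterm] at h0
  have h1 := (Finset.sum_eq_zero_iff_of_nonneg (fun w _ => mul_nonneg (by positivity)
    (Finset.sum_nonneg fun a _ => by positivity))).1 h0 1 (Finset.mem_univ _)
  rw [wlen_one, pow_zero, one_mul, inv_one, Tm_one, Matrix.one_mulVec] at h1
  funext a
  have h2 := (Finset.sum_eq_zero_iff_of_nonneg (fun a _ => by positivity)).1 h1 a (Finset.mem_univ _)
  exact pow_eq_zero_iff two_ne_zero |>.1 ((mul_eq_zero.1 h2).resolve_left (by positivity))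

theorem continuous_Tm (w : W) : Continuous fun t : ℝ => Tm E t w := by
  refine continuous_list_prod _ fun i _ => continuous_matrix fun a b => ?_
  simp only [Lm, Matrix.of_apply, lvec]
  split
  · simp only [Pi.add_apply, Pi.smul_apply, smul_eq_mul]
    fun_prop
  · exact continuous_const

theorem continuousOn_trace : ContinuousOn (fun t : ℝ => (Pm E t).trace) (Set.Ioi 0) := by
  intro t ht
  refine ContinuousAt.continuousWithinAt ?_
  have ht0 : t ≠ 0 := ne_of_gt ht
  have hp : ∀ w : W, ContinuousAt (fun t : ℝ => t⁻¹ ^ ℓ w) t := fun w =>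
    (continuousAt_inv₀ ht0).pow _
  have hG : ContinuousAt (fun t : ℝ => Gmat E t) t := by
    refine continuousAt_pi.2 fun a => continuousAt_pi.2 fun v => ?_
    simp only [Gmat, Matrix.of_apply, Gam, Matrix.sum_apply, Matrix.smul_apply, smul_eq_mul]
    exact tendsto_finsetSum _ fun w _ => (hp w).mul
      ((((continuous_Tm w).mul (continuous_Tm v)).mul (continuous_Tm w⁻¹)).matrix_elem a 1).continuousAt
  have hC : ContinuousAt (fun t : ℝ => Cm E t) t := by
    unfold Cm
    exact tendsto_finsetSum _ fun w _ => (hp w).smul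
      ((continuous_Tm w).mul (continuous_Tm w⁻¹)).continuousAt
  have hi : ContinuousAt (fun t : ℝ => (Cm E t)⁻¹) t :=
    ContinuousAt.comp (g := Inv.inv) (continuousAt_matrix_inv _ (by
      rw [Ring.inverse_eq_inv']
      exact continuousAt_inv₀ (isUnit_det_Cm ht).ne_zero)) hC
  exact (continuous_id.matrix_trace).continuousAt.comp (hi.mul hG)

theorem Lm_one_single (i : ι) (u : W) :
    Lm E (1 : ℝ) i *ᵥ Pi.single u 1 = Pi.single (E.f i * u) 1 := by
  rw [Lm_single, lvec]
  split <;> simp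

theorem Tm_one_single (w u : W) : Tm E (1 : ℝ) w *ᵥ Pi.single u 1 = Pi.single (w * u) 1 := by
  conv_rhs => rw [← rword_prod E w]
  rw [Tm]
  induction rword E w with
  | nil => rw [List.map_nil, List.prod_nil, Matrix.one_mulVec, List.map_nil, List.prod_nil, one_mul]
  | cons i l ih =>
    rw [List.map_cons, List.prod_cons, ← Matrix.mulVec_mulVec, ih, Lm_one_single, List.map_cons,
      List.prod_cons, mul_assoc]

theorem trace_Pm_one : (Pm E (1 : ℝ)).trace = (Nat.card (ConjClasses W) : ℝ) := by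
  have hmul : ∀ v w : W, Tm E (1 : ℝ) v * Tm E 1 w = Tm E 1 (v * w) := fun v w => by
    refine ext_single fun u => ?_
    rw [← Matrix.mulVec_mulVec, Tm_one_single, Tm_one_single, Tm_one_single, mul_assoc]
  have hC : Cm E (1 : ℝ) = (Fintype.card W : ℝ) • (1 : Matrix W W ℝ) := by
    simp only [Cm, inv_one, one_pow, one_smul, hmul, mul_inv_cancel, Tm_one, Finset.sum_const,
      Finset.card_univ, Nat.cast_smul_eq_nsmul]
  have hW : (Fintype.card W : ℝ) ≠ 0 := Nat.cast_ne_zero.2 Fintype.card_ne_zero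
  have hCi : (Cm E (1 : ℝ))⁻¹ = (Fintype.card W : ℝ)⁻¹ • (1 : Matrix W W ℝ) :=
    Matrix.inv_eq_left_inv (by rw [hC, smul_mul_smul_comm, inv_mul_cancel₀ hW, one_smul, one_mul])
  rw [Pm, hCi, smul_mul_assoc, one_mul, Matrix.trace_smul, smul_eq_mul, inv_mul_eq_iff_eq_mul₀ hW]
  have hd : ∀ v w : W, Tm E (1 : ℝ) (w * v * w⁻¹) v 1 = if v * w = w * v then 1 else 0 := by
    intro v w
    have h := congrFun (col_Tm (E := E) (t := (1 : ℝ)) (w * v * w⁻¹)) v
    rw [col, Matrix.mulVec_single_one] at h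
    rw [← Matrix.col_apply (A := Tm E (1 : ℝ) (w * v * w⁻¹)), h, Pi.single_apply]
    exact if_congr eq_mul_inv_iff_mul_eq rfl rfl
  simp only [Matrix.trace, Matrix.diag_apply, Gmat, Matrix.of_apply, Gam, inv_one, one_pow, one_smul,
    hmul, Matrix.sum_apply, hd]
  classical
  have hcount := card_comm_eq_card_conjClasses_mul_card W
  rw [Nat.card_eq_fintype_card (α := W), ← Fintype.card_congr (Equiv.refl W)] at hcount
  calc ∑ v : W, ∑ w : W, (if v * w = w * v then (1 : ℝ) else 0)
      = ∑ p : W × W, (if p.1 * p.2 = p.2 * p.1 then (1 : ℝ) else 0) :=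
        (Fintype.sum_prod_type (fun p : W × W => if p.1 * p.2 = p.2 * p.1 then (1 : ℝ) else 0)).symm
    _ = (Nat.card {p : W × W // Commute p.1 p.2} : ℝ) := by
        rw [Finset.sum_boole, Nat.card_eq_fintype_card, Fintype.card_subtype]
        congr 2
        ext p
        simp [commute_iff_eq]
    _ = _ := by rw [hcount]; push_cast; ring

/-- The centre has dimension the number of conjugacy classes, for every positive parameter. -/
theorem finrank_center (ht : 0 < t) :
    Module.finrank ℝ (Zsub E t) = Nat.card (ConjClasses W) := by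
  have hv : ∀ {s : ℝ}, 0 < s → (Pm E s).trace = (Module.finrank ℝ (Zsub E s) : ℝ) := fun hs =>
    trace_Pm hs.ne' (isUnit_det_Cm hs)
  have no_gap : ∀ a b : ℝ, 0 < a → 0 < b →
      ¬ Module.finrank ℝ (Zsub E a) < Module.finrank ℝ (Zsub E b) := by
    intro a b ha hb hlt
    have hlt' : (Module.finrank ℝ (Zsub E a) : ℝ) + 1 ≤ Module.finrank ℝ (Zsub E b) := by
      exact_mod_cast hlt
    obtain ⟨c, hc, hc'⟩ := isPreconnected_Ioi.intermediate_value (a := a) (b := b) ha hb
      (continuousOn_trace (E := E))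
      (show (Module.finrank ℝ (Zsub E a) : ℝ) + 1 / 2 ∈ Set.Icc _ _ from
        ⟨by rw [hv ha]; linarith, by rw [hv hb]; linarith⟩)
    simp only at hc'
    rw [hv hc] at hc'
    have h2 : ((2 * Module.finrank ℝ (Zsub E c) : ℕ) : ℝ) =
        ((2 * Module.finrank ℝ (Zsub E a) + 1 : ℕ) : ℝ) := by
      push_cast; linarith
    have := Nat.cast_inj.1 h2
    omega
  have h1 := hv (s := (1 : ℝ)) one_pos
  rw [trace_Pm_one, Nat.cast_inj] at h1
  rw [h1]
  exact le_antisymm (not_lt.1 (no_gap 1 t one_pos ht)) (not_lt.1 (no_gap t 1 ht one_pos))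

theorem finrank_center_complex (ht : 0 < t) :
    Module.finrank ℂ (Zsub E (t : ℂ)) = Nat.card (ConjClasses W) := by
  have hC := isUnit_det_Cm (E := E) ht
  have hC' : IsUnit (Cm E (t : ℂ)).det := by
    have h := hC.map Complex.ofRealHom
    rwa [RingHom.map_det, map_Cm] at h
  have h := trace_Pm_map (E := E) Complex.ofRealHom hC
  rw [show Complex.ofRealHom t = (t : ℂ) from rfl,
    trace_Pm (by exact_mod_cast ht.ne') hC', trace_Pm ht.ne' hC, map_natCast, Nat.cast_inj] at h
  rw [h, finrank_center ht]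

end Real

end CfsgLib.HeckeW
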