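import Cfsg.Agent.Lib.HeckeW.Group
import Cfsg.Agent.Lib.Chev.Steinberg
import Cfsg.Agent.Lib.ChevWeyl.Quot

/-!
# The principal series of a Chevalley group
-/

set_option autoImplicit false

namespace CfsgLib.HeckeW

open Cfsg.Lie CfsgLib.Chev CfsgLib.BN

variable {D : ChevalleyDatum} {T : Tabs} {F : Type*} [Field F]

theorem param_eq [Fintype F] (hc : Checked D T) (hcomm : CommOne D T)
    (P : Cfsg.BNPair ↥(D.group F)) (hB : P.B = (D.borelSubgroup F).subgroupOf (D.group F))
    (hS : P.S = {n : ↥(D.group F) | ∃ i < D.rank,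
      ((n : GL D.Idx F) : Matrix D.Idx D.Idx F) = D.nMat F (D.simple i) 1})
    [Fintype (↥(D.group F) ⧸ P.B)] [DecidableEq (↥(D.group F) ⧸ P.B)] [DecidableEq (Weyl P)]
    (s : P.S) : FeitHigman.param P s = Fintype.card F := by
  classical
  obtain ⟨i₀, hi₀, he⟩ : ∃ i < D.rank, (((s : ↥(D.group F)) : GL D.Idx F) : Matrix D.Idx D.Idx F) =
      D.nMat F (D.simple i) 1 := by
    exact (Set.ext_iff.1 hS _).1 s.2
  set i : Fin D.rank := ⟨i₀, hi₀⟩
  have hp := simple_lt hc i.2
  have hpp := half_le_simple hc i.2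
  have hs : ((s : ↥(D.group F)) : GL D.Idx F) = elN D F (D.simple i.val) 1 := by
    ext1; rw [he, coe_elN hc hp]
  set n : GL D.Idx F := elN D F (D.simple i.val) 1 with hn
  have hnn : n * n ∈ D.diagonalSubgroup F := elN_simple_sq hc i
  have hmB : ∀ g : ↥(D.group F), g ∈ P.B ↔ (g : GL D.Idx F) ∈ D.borelSubgroup F := fun g => by
    rw [hB, Subgroup.mem_subgroupOf]
  -- conjugation by the inverse
  have hflip : ∀ x, n * x * n⁻¹ ∈ D.borelSubgroup F → n⁻¹ * x * n ∈ D.borelSubgroup F := by
    intro x hx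
    have := mul_mem (mul_mem (inv_mem (diagonal_le_borel hc hnn)) hx) (diagonal_le_borel hc hnn)
    convert this using 1
    group
  have hflip' : ∀ x, n⁻¹ * x * n ∈ D.borelSubgroup F → n * x * n⁻¹ ∈ D.borelSubgroup F := by
    intro x hx
    have := mul_mem (mul_mem (diagonal_le_borel hc hnn) hx) (inv_mem (diagonal_le_borel hc hnn))
    convert this using 1
    group
  let a : F → ↥(D.group F) := fun t => ⟨elX D F (D.simple i.val) t, elX_mem_group hc hp t⟩
  have haB : ∀ t, a t ∈ P.B := fun t => (hmB _).2 (elX_mem_borel hc hp hpp t)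
  refine (Finset.card_bij (s := (Finset.univ : Finset F))
    (fun t _ => ((a t * (s : ↥(D.group F)) : ↥(D.group F)) : ↥(D.group F) ⧸ P.B)) ?_ ?_ ?_).symm.trans
    Finset.card_univ
  · intro t _
    refine Finset.mem_filter.2 ⟨Finset.mem_univ _, FeitHigman.rel_mk P ?_⟩
    rw [inv_one, one_mul]
    exact cell_left P (haB t) (sgen_mem_cell P s)
  · intro t _ t' _ h
    by_contra hne
    rw [QuotientGroup.eq, hmB] at h
    simp only [Subgroup.coe_mul, Subgroup.coe_inv, hs, a, mul_inv_rev] at h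
    have h1 : n⁻¹ * elX D F (D.simple i.val) (-t + t') * n ∈ D.borelSubgroup F := by
      rw [← elX_add hc F hp, ← elX_inv hc F hp]
      convert h using 1
      group
    have h2 := hflip' _ h1
    rw [hn, nOne_conj_elX hc i hp, sig_simple hc] at h2
    refine elX_not_mem_borel hc (neg_lt hc hp) ?_ (mul_ne_zero ?_ ?_) h2
    · have := neg_eq hc hp; have := nroots_eq_two_mul hc; omega
    · rcases eta_cast hc (F := F) i hp with e | e <;> simp [e]
    · intro e
      exact hne (neg_add_eq_zero.1 e)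
  · intro y hy
    induction y using QuotientGroup.induction_on with
    | _ g =>
    have hg := (Finset.mem_filter.1 hy).2
    have hcell := hg ▸ FeitHigman.rel_spec P (1 : ↥(D.group F)) g
    rw [inv_one, one_mul, sgen, mem_cell_wk] at hcell
    obtain ⟨b, hb, b', hb', rfl⟩ := hcell
    obtain ⟨u, hu, h, hh, hbe⟩ := (mem_borel hc).1 ((hmB b).1 hb)
    obtain ⟨c, hcc, t, hct⟩ := pos_split_simple hc hcomm i (inv_mem hu)
    refine ⟨-t, Finset.mem_univ _, ?_⟩
    rw [QuotientGroup.eq, hmB]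
    simp only [Subgroup.coe_mul, Subgroup.coe_inv, hs, a]
    rw [← elX_inv hc F hp]
    have e : ((elX D F (D.simple i.val) t)⁻¹ * n)⁻¹ * ((b : GL D.Idx F) * n * (b' : GL D.Idx F)) =
        n⁻¹ * (c⁻¹ * h) * n * (b' : GL D.Idx F) := by
      have hu' : u = (elX D F (D.simple i.val) t)⁻¹ * c⁻¹ := by rw [← mul_inv_rev, ← hct, inv_inv]
      rw [hbe, hu']
      group
    rw [e]
    refine mul_mem ?_ ((hmB b').1 hb')
    refine hflip _ ?_
    rw [show n * (c⁻¹ * h) * n⁻¹ = (n * c⁻¹ * n⁻¹) * (n * h * n⁻¹) by group]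
    exact mul_mem (pos_le_borel hc (uGen_mono (fun _ _ h => h.1) (nOne_conj_comp hc i (inv_mem hcc))))
      (diagonal_le_borel hc (nOne_conj_diagonal hc i hh))

/-- The number of constituents of the permutation character on the Borel subgroup is the number of
classes of the Weyl group. -/
theorem card_principal_series [Fintype F] (hc : Checked D T) (hcomm : CommOne D T)
    {n : ℕ} {M : CoxeterMatrix (Fin n)}
    (hφ : ∃ φ : ↥(D.monomialSubgroup F) →* M.Group, Function.Surjective φ ∧
      φ.ker = (D.diagonalSubgroup F).subgroupOf (D.monomialSubgroup F)) :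
    Nat.card {χ : Cfsg.IrrCharacter ↥(D.group F) //
      ∃ φ : ↥(D.group F) → ℂ, Cfsg.IsCharacter ↥(D.group F) φ ∧
        Cfsg.fixedPointCharacter ((D.borelSubgroup F).subgroupOf (D.group F)) =
          (χ : ↥(D.group F) → ℂ) + φ} = Nat.card (ConjClasses M.Group) := by
  classical
  haveI : Fintype ↥(D.group F) := Fintype.ofFinite _
  obtain ⟨P, hB, hN, hS⟩ := exists_bnPair hc hcomm (F := F)
  haveI : Fintype (↥(D.group F) ⧸ P.B) := Fintype.ofFinite _
  haveI : Fintype (Weyl P) := Fintype.ofFinite _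
  haveI : Fintype P.B := Fintype.ofFinite _
  rw [← hB, card_constituents (param_eq hc hcomm P hB hS) Fintype.card_ne_zero]
  obtain ⟨φ, hsurj, hker⟩ := hφ
  have hmem : ∀ x : P.N, ((x : ↥(D.group F)) : GL D.Idx F) ∈ D.monomialSubgroup F := fun x => by
    exact Subgroup.mem_subgroupOf.1 ((SetLike.ext_iff.1 hN _).1 x.2)
  let ι : ↥P.N →* ↥(D.monomialSubgroup F) :=
    { toFun := fun x => ⟨((x : ↥(D.group F)) : GL D.Idx F), hmem x⟩
      map_one' := rfl
      map_mul' := fun _ _ => rfl }
  have hι : Function.Surjective ι := fun x =>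
    ⟨⟨⟨(x : GL D.Idx F), monomial_le_group hc x.2⟩, by rw [hN, Subgroup.mem_subgroupOf]; exact x.2⟩,
      rfl⟩
  have hkerP : (φ.comp ι).ker = torus P := by
    ext x
    rw [MonoidHom.mem_ker, MonoidHom.comp_apply, ← MonoidHom.mem_ker, hker, Subgroup.mem_subgroupOf,
      mem_torus, hB, Subgroup.mem_subgroupOf]
    exact ⟨fun h => diagonal_le_borel hc h, fun h => borel_inf_monomial hc h (hmem x)⟩
  let e : Weyl P ≃* M.Group := (QuotientGroup.quotientMulEquivOfEq hkerP.symm).trans
    (QuotientGroup.quotientKerEquivOfSurjective (φ.comp ι) (hsurj.comp hι))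
  refine Nat.card_congr (Quotient.congr e.toEquiv fun a b => ?_)
  refine ⟨fun h => (MulEquiv.toMonoidHom e).map_isConj h, fun h => ?_⟩
  show IsConj a b
  have := (MulEquiv.toMonoidHom e.symm).map_isConj (show IsConj (e a) (e b) from h)
  rwa [MulEquiv.coe_toMonoidHom, e.symm_apply_apply, e.symm_apply_apply] at this

end CfsgLib.HeckeW
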