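import Cfsg.Agent.Lib.Char.Complete
import Cfsg.Agent.Lib.Char.Virtual
import Cfsg.Agent.Lib.PermChar.Basic
import Mathlib.LinearAlgebra.Matrix.DotProduct
import Mathlib.LinearAlgebra.Dimension.Constructions
import Mathlib.LinearAlgebra.Matrix.PosDef

/-!
# Constituents of a permutation character counted by the image of the class functions
-/

set_option autoImplicit false

namespace CfsgLib.HeckeW

open Module MulAction CfsgLib.Char
open scoped ComplexConjugate Matrix ComplexOrder

variable {G : Type*} [Group G] [Fintype G] [DecidableEq G] {Ω : Type*} [MulAction G Ω] [Fintype Ω] [DecidableEq Ω]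

/-- The operator of a function on the group. -/
noncomputable def Aop : (G → ℂ) →ₗ[ℂ] Matrix Ω Ω ℂ where
  toFun f := Matrix.of fun x y => ∑ g : G, if g • y = x then f g else 0
  map_add' f f' := by
    ext x y
    simp only [Matrix.of_apply, Matrix.add_apply, Pi.add_apply, ← Finset.sum_add_distrib]
    exact Finset.sum_congr rfl fun g _ => by split <;> simp
  map_smul' c f := by
    ext x y
    simp only [Matrix.of_apply, Matrix.smul_apply, Pi.smul_apply, smul_eq_mul, Finset.mul_sum,
      RingHom.id_apply]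
    exact Finset.sum_congr rfl fun g _ => by split <;> simp

theorem Aop_apply (f : G → ℂ) (x y : Ω) :
    Aop (Ω := Ω) f x y = ∑ g : G, if g • y = x then f g else 0 := rfl

/-- The class functions. -/
noncomputable def classFns : Submodule ℂ (G → ℂ) where
  carrier := {f | Cfsg.IsClassFunction G f}
  add_mem' := fun {a b} ha hb g x => by simp only [Pi.add_apply, ha g x, hb g x]
  zero_mem' := fun g x => rfl
  smul_mem' := fun c a ha g x => by simp only [Pi.smul_apply, ha g x]

theorem mem_classFns {f : G → ℂ} : f ∈ (classFns : Submodule ℂ (G → ℂ)) ↔ Cfsg.IsClassFunction G f :=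
  Iff.rfl

theorem trace_Aop_mul (f : G → ℂ) (h : G) :
    (Aop (Ω := Ω) f * Aop (Pi.single h 1)).trace = ∑ g, f g * PermChar.piFun G Ω (g * h) := by
  have hs : ∀ y x : Ω, Aop (Ω := Ω) (Pi.single h (1 : ℂ)) y x = if h • x = y then 1 else 0 := by
    intro y x
    rw [Aop_apply, Finset.sum_eq_single h (fun g _ hg => by simp [Pi.single_eq_of_ne hg])
      (fun h' => absurd (Finset.mem_univ h) h')]
    simp
  simp only [Matrix.trace, Matrix.diag_apply, Matrix.mul_apply, hs, mul_ite, mul_one, mul_zero,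
    Finset.sum_ite_eq, Finset.mem_univ, if_true]
  simp only [Aop_apply]
  rw [Finset.sum_comm]
  refine Finset.sum_congr rfl fun g _ => ?_
  rw [Finset.sum_ite, Finset.sum_const_zero, add_zero, Finset.sum_const, nsmul_eq_mul, mul_comm]
  congr 1
  rw [PermChar.piFun, Nat.card_eq_fintype_card, Fintype.card_subtype]
  congr 2
  ext x
  simp [fixedBy, mul_smul]

theorem Aop_eq_zero {f : G → ℂ} (h : ∀ k : G, ∑ g, f g * PermChar.piFun G Ω (g * k) = 0) :
    Aop (Ω := Ω) f = 0 := by
  classical
  rw [← Matrix.trace_mul_conjTranspose_self_eq_zero_iff]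
  set f' : G → ℂ := fun g => conj (f g⁻¹)
  have hconj : (Aop (Ω := Ω) f)ᴴ = Aop f' := by
    ext x y
    simp only [Matrix.conjTranspose_apply, Aop_apply, star_sum]
    refine Fintype.sum_equiv (Equiv.inv G) _ _ fun g => ?_
    simp only [Equiv.inv_apply, inv_smul_eq_iff, f', inv_inv, apply_ite star, star_zero]
    exact if_congr eq_comm rfl rfl
  rw [hconj, show f' = ∑ k, f' k • (Pi.single k (1 : ℂ) : G → ℂ) from pi_eq_sum_univ' f',
    map_sum, Finset.mul_sum, Matrix.trace_sum]
  refine Finset.sum_eq_zero fun k _ => ?_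
  rw [map_smul, mul_smul_comm, Matrix.trace_smul, trace_Aop_mul, h, smul_zero]

/-- The multiplicity, as a complex number. -/
noncomputable def multC (χ : Cfsg.IrrCharacter G) : ℂ := Cfsg.classInner (PermChar.piFun G Ω) χ.1

theorem isClassFunction_conj {f : G → ℂ} (hf : Cfsg.IsClassFunction G f) :
    Cfsg.IsClassFunction G (fun g => conj (f g)) := fun g x => by simp only [hf g x]

theorem sum_conj_mul_piFun (χ : Cfsg.IrrCharacter G) (k : G) :
    ∑ g, conj (χ.1 g) * PermChar.piFun G Ω (g * k) =
      multC (Ω := Ω) χ * (Nat.card G : ℂ) / χ.1 1 * χ.1 k := by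
  classical
  set f : G → ℂ := fun g => conj (χ.1 g)
  have hf : Cfsg.IsClassFunction G f := isClassFunction_conj (IsIrrCharacter.isClassFunction χ.2)
  have key : ∀ ψ : Cfsg.IrrCharacter G, ∑ g, f g * ψ.1 (g * k) =
      (Nat.card G : ℂ) * Cfsg.classInner ψ.1 χ.1 / ψ.1 1 * ψ.1 k := by
    intro ψ
    obtain ⟨n, ρ, hρ, hψ⟩ := ψ.2
    haveI := hρ
    have h := congrArg (fun T : Module.End ℂ (Fin n → ℂ) => LinearMap.trace ℂ _ (T * ρ k))
      (opOfFun_irreducible ρ hf)
    simp only [opOfFun, Finset.sum_mul, map_sum, smul_mul_assoc, ← map_mul, map_smul,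
      smul_eq_mul] at h
    have hid : (LinearMap.id : Module.End ℂ (Fin n → ℂ)) * ρ k = ρ k := one_mul _
    rw [hid] at h
    have h1 : (finrank ℂ (Fin n → ℂ) : ℂ) = ψ.1 1 := by rw [← hψ, ρ.char_one]
    rw [h1] at h
    rw [show (Nat.card G : ℂ) * Cfsg.classInner ψ.1 χ.1 = ∑ g, f g * ρ.character g by
      rw [Cfsg.classInner, ← mul_assoc, mul_inv_cancel₀ (Nat.cast_ne_zero.2 Nat.card_pos.ne'), one_mul, hψ]
      exact Finset.sum_congr rfl fun g _ => mul_comm _ _]
    rw [← hψ] at h ⊢
    exact h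
  rw [PermChar.piFun_eq_sum]
  simp only [Finset.sum_apply, Pi.smul_apply, smul_eq_mul, Finset.mul_sum]
  rw [Finset.sum_comm]
  simp only [mul_left_comm, ← Finset.mul_sum]
  rw [Finset.sum_eq_single χ]
  · rw [key, classInner_irr_self χ.2, mul_one, multC, PermChar.cast_mult χ.2]
    ring
  · intro ψ _ hne
    rw [key, classInner_irr_of_ne ψ.2 χ.2 fun e => hne (Subtype.ext e)]
    simp
  · exact fun h => absurd (Finset.mem_univ _) h

theorem trace_Aop_conj (χ : Cfsg.IrrCharacter G) (k : G) :
    (Aop (Ω := Ω) (fun g => conj (χ.1 g)) * Aop (Pi.single k 1)).trace =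
      multC (Ω := Ω) χ * (Nat.card G : ℂ) / χ.1 1 * χ.1 k := by
  rw [trace_Aop_mul]
  exact sum_conj_mul_piFun χ k

/-- The image of the class functions has dimension the number of constituents. -/
theorem finrank_image :
    finrank ℂ (Submodule.map (Aop (G := G) (Ω := Ω)) classFns) =
      Nat.card {χ : Cfsg.IrrCharacter G // multC (Ω := Ω) χ ≠ 0} := by
  classical
  let v : {χ : Cfsg.IrrCharacter G // multC (Ω := Ω) χ ≠ 0} → Matrix Ω Ω ℂ :=
    fun χ => Aop fun g => conj (χ.1.1 g)
  have hspan : Submodule.map (Aop (G := G) (Ω := Ω)) classFns = Submodule.span ℂ (Set.range v) := by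
    refine le_antisymm ?_ (Submodule.span_le.2 ?_)
    · rintro _ ⟨f, hf, rfl⟩
      have h := IsClassFunction.eq_sum_classInner (isClassFunction_conj hf)
      have h' : f = ∑ χ : Cfsg.IrrCharacter G,
          conj (Cfsg.classInner (fun g => conj (f g)) χ.1) • fun g => conj (χ.1 g) := by
        funext g
        have := congrArg conj (congrFun h g)
        simpa [Finset.sum_apply, map_sum] using this
      rw [h', map_sum]
      refine Submodule.sum_mem _ fun χ _ => ?_
      rw [map_smul]
      refine Submodule.smul_mem _ _ ?_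
      by_cases hm : multC (Ω := Ω) χ = 0
      · rw [Aop_eq_zero fun k => by rw [sum_conj_mul_piFun, hm]; simp]
        exact zero_mem _
      · exact Submodule.subset_span ⟨⟨χ, hm⟩, rfl⟩
    · rintro _ ⟨χ, rfl⟩
      exact ⟨_, isClassFunction_conj (IsIrrCharacter.isClassFunction χ.1.2), rfl⟩
  have hli : LinearIndependent ℂ v := by
    rw [Fintype.linearIndependent_iff]
    intro c hc χ
    let d : {χ : Cfsg.IrrCharacter G // multC (Ω := Ω) χ ≠ 0} → ℂ := fun χ =>
      c χ * (multC (Ω := Ω) χ.1 * (Nat.card G : ℂ) / χ.1.1 1)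
    have h0 : ∑ χ, d χ • χ.1.1 = 0 := by
      funext k
      have := congrArg (fun M => (M * Aop (Ω := Ω) (Pi.single k (1 : ℂ))).trace) hc
      simp only [v, Finset.sum_mul, Matrix.trace_sum, smul_mul_assoc, Matrix.trace_smul,
        trace_Aop_conj, smul_eq_mul, zero_mul, Matrix.trace_zero] at this
      simpa [d, Finset.sum_apply, mul_assoc] using this
    have h1 := Fintype.linearIndependent_iff.1
      (linearIndependent_irrCharacter.comp _ Subtype.val_injective) d h0 χ
    refine (mul_eq_zero.1 h1).resolve_right (div_ne_zero (mul_ne_zero χ.2 ?_) ?_)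
    · exact Nat.cast_ne_zero.2 Nat.card_pos.ne'
    · exact IsIrrCharacter.apply_one_ne_zero χ.1.2
  rw [hspan, finrank_span_eq_card hli, Nat.card_eq_fintype_card]

/-- An irreducible character occurs in the permutation character exactly when its multiplicity is
not zero. -/
theorem exists_add_iff (χ : Cfsg.IrrCharacter G) :
    (∃ φ : G → ℂ, Cfsg.IsCharacter G φ ∧ PermChar.piFun G Ω = χ.1 + φ) ↔ multC (Ω := Ω) χ ≠ 0 := by
  classical
  constructor
  · rintro ⟨φ, hφ, he⟩
    obtain ⟨m, hm⟩ := IsCharacter.exists_nat_classInner hφ χ.2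
    rw [multC, he, classInner_add_left, classInner_irr_self χ.2, hm]
    exact_mod_cast (show 1 + m ≠ 0 by omega)
  · intro hne
    have hne' := (PermChar.classInner_ne_zero_iff χ.2).1 hne
    let m' : Cfsg.IrrCharacter G → ℕ := fun ψ =>
      if ψ = χ then PermChar.mult Ω ψ.1 - 1 else PermChar.mult Ω ψ.1
    refine ⟨∑ ψ : Cfsg.IrrCharacter G, m' ψ • ψ.1,
      IsCharacter.sum _ _ fun ψ _ => IsCharacter.nsmul (IsIrrCharacter.isCharacter ψ.2) _, ?_⟩
    rw [PermChar.piFun_eq_sum, ← Finset.add_sum_erase _ _ (Finset.mem_univ χ),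
      ← Finset.add_sum_erase _ (fun ψ => m' ψ • ψ.1) (Finset.mem_univ χ), ← add_assoc]
    congr 1
    · simp only [m', if_pos, Nat.cast_smul_eq_nsmul]
      rw [← succ_nsmul', Nat.sub_add_cancel (Nat.one_le_iff_ne_zero.2 hne')]
    · refine Finset.sum_congr rfl fun ψ hψ => ?_
      simp only [m', if_neg (Finset.ne_of_mem_erase hψ), Nat.cast_smul_eq_nsmul]

end CfsgLib.HeckeW
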