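import Cfsg.Agent.Lib.HeckeW.Center
import Cfsg.Agent.Lib.HeckeW.Perm
import Cfsg.Agent.Lib.FeitHigman.Hecke
import Cfsg.Agent.Lib.BN.Steinberg
import Cfsg.Prelude.Def_ParabolicCharacters

/-!
# The constituents of the permutation character on the chambers of a Tits system
-/

set_option autoImplicit false

namespace CfsgLib.HeckeW

open CfsgLib.BN Module
open scoped Matrix

variable {G : Type*} [Group G] (P : Cfsg.BNPair G)

local notation "ℓ" => wlen (sgen P)

/-- The chamber fixed by `B`. -/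
noncomputable def x₀ : (G ⧸ P.B) := ((1 : G) : (G ⧸ P.B))

/-- The standard point of a Weyl element. -/
noncomputable def pt (w : Weyl P) : (G ⧸ P.B) := ((nw P w : G) : (G ⧸ P.B))

theorem rel_pt (w : Weyl P) : FeitHigman.rel P (x₀ P) (pt P w) = w :=
  FeitHigman.rel_mk P (by rw [inv_one, one_mul]; exact nw_mem_cell P w)

theorem rel_smul (g : G) (x y : (G ⧸ P.B)) : FeitHigman.rel P (g • x) (g • y) = FeitHigman.rel P x y := by
  induction x using QuotientGroup.induction_on with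
  | _ a =>
  induction y using QuotientGroup.induction_on with
  | _ b =>
  exact FeitHigman.rel_mk P (by
    show (g * a)⁻¹ * (g * b) ∈ _
    rw [show (g * a)⁻¹ * (g * b) = a⁻¹ * b by group]
    exact FeitHigman.rel_spec P a b)

theorem exists_smul_pt (x y : (G ⧸ P.B)) :
    ∃ g : G, g • x₀ P = x ∧ g • pt P (FeitHigman.rel P x y) = y := by
  induction x using QuotientGroup.induction_on with
  | _ a =>
  induction y using QuotientGroup.induction_on with
  | _ c =>
  obtain ⟨b, hb, b', hb', e⟩ := (mem_cell_iff P).1 (FeitHigman.rel_spec P a c)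
  refine ⟨a * b, ?_, ?_⟩
  · show ((a * b * 1 : G) : (G ⧸ P.B)) = (a : (G ⧸ P.B))
    rw [mul_one, QuotientGroup.eq, show (a * b)⁻¹ * a = b⁻¹ by group]
    exact inv_mem hb
  · show ((a * b * nw P _ : G) : (G ⧸ P.B)) = (c : (G ⧸ P.B))
    rw [QuotientGroup.eq, show (a * b * nw P (FeitHigman.rel P (a : (G ⧸ P.B)) (c : (G ⧸ P.B))))⁻¹ * c =
      (b * nw P (FeitHigman.rel P (a : (G ⧸ P.B)) (c : (G ⧸ P.B))))⁻¹ * (a⁻¹ * c) by group, e, inv_mul_cancel_left]
    exact hb'

/-- The invariant matrix of a function on the Weyl group. -/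
noncomputable def Phi : (Weyl P → ℂ) →ₗ[ℂ] Matrix (G ⧸ P.B) (G ⧸ P.B) ℂ where
  toFun f := Matrix.of fun x y => f (FeitHigman.rel P x y)
  map_add' _ _ := rfl
  map_smul' _ _ := rfl

theorem Phi_apply (f : Weyl P → ℂ) (x y : (G ⧸ P.B)) : Phi P f x y = f (FeitHigman.rel P x y) := rfl

theorem Phi_injective : Function.Injective (Phi P) := fun f g h => funext fun w => by
  have := congrFun (congrFun h (x₀ P)) (pt P w)
  rwa [Phi_apply, Phi_apply, rel_pt] at this

theorem Phi_transpose (f : Weyl P → ℂ) : (Phi P f)ᵀ = Phi P (fun w => f w⁻¹) := by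
  ext x y
  rw [Matrix.transpose_apply, Phi_apply, Phi_apply, FeitHigman.rel_symm]

theorem Phi_invariant (f : Weyl P → ℂ) (g : G) (x y : (G ⧸ P.B)) :
    Phi P f (g • x) (g • y) = Phi P f x y := by rw [Phi_apply, Phi_apply, rel_smul]

theorem eq_Phi {Y : Matrix (G ⧸ P.B) (G ⧸ P.B) ℂ} (h : ∀ (g : G) (x y : (G ⧸ P.B)), Y (g • x) (g • y) = Y x y) :
    Y = Phi P fun w => Y (x₀ P) (pt P w) := by
  ext x y
  obtain ⟨g, hg1, hg2⟩ := exists_smul_pt P x y
  rw [Phi_apply]
  conv_lhs => rw [← hg1, ← hg2]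
  exact h g _ _

variable [Fintype (G ⧸ P.B)] [DecidableEq (G ⧸ P.B)] [Fintype (Weyl P)] [DecidableEq (Weyl P)]

/-- The basis matrices. -/
noncomputable def Mc (w : Weyl P) : Matrix (G ⧸ P.B) (G ⧸ P.B) ℂ := Phi P (Pi.single w 1)

theorem Mc_eq (w : Weyl P) : Mc P w = Complex.ofRealHom.mapMatrix (FeitHigman.T P w) := by
  ext x y
  simp [Mc, Phi_apply, FeitHigman.T_apply, Pi.single_apply, apply_ite Complex.ofReal]

variable {P} {q : ℕ} (hq : ∀ s : P.S, FeitHigman.param P s = q)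
include hq

theorem Phi_Lm (s : P.S) (f : Weyl P → ℂ) :
    Phi P (Lm (sys P) (q : ℂ) s *ᵥ f) = Mc P (sgen P s) * Phi P f := by
  have hlin : (Phi P).comp (Matrix.mulVecLin (Lm (sys P) (q : ℂ) s)) =
      (LinearMap.mulLeft ℂ (Mc P (sgen P s))).comp (Phi P) := by
    refine LinearMap.pi_ext fun w c => ?_
    rw [show (Pi.single w c : Weyl P → ℂ) = c • Pi.single w 1 by simp [← Pi.single_smul],
      map_smul, map_smul]
    congr 1
    simp only [LinearMap.comp_apply, Matrix.mulVecLin_apply, LinearMap.mulLeft_apply, Lm_single]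
    rcases left_cases (sys P) s w with h | h
    · have hle : ℓ w ≤ ℓ (sgen P s * w) := by change _ = _ at h; exact le_of_lt (h ▸ Nat.lt_succ_self _)
      rw [lvec_up h]
      show Mc P (sgen P s * w) = Mc P (sgen P s) * Mc P w
      rw [Mc_eq, Mc_eq, Mc_eq, ← map_mul, FeitHigman.T_mul P hle]
    · have hle : ℓ (sgen P s * w) ≤ ℓ (sgen P s * (sgen P s * w)) := by
        rw [← mul_assoc, sgen_sq, one_mul]
        change _ = _ at h
        exact le_of_lt (h ▸ Nat.lt_succ_self _)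
      have hw : sgen P s * (sgen P s * w) = w := by rw [← mul_assoc, sgen_sq, one_mul]
      have e : Mc P w = Mc P (sgen P s) * Mc P (sgen P s * w) := by
        rw [Mc_eq, Mc_eq, Mc_eq, ← map_mul, FeitHigman.T_mul P hle, hw]
      have hsq : Mc P (sgen P s) * Mc P (sgen P s) =
          ((q : ℂ) - 1) • Mc P (sgen P s) + (q : ℂ) • 1 := by
        rw [Mc_eq, ← map_mul, FeitHigman.T_sq, hq]
        ext x y
        simp [Matrix.one_apply, apply_ite Complex.ofReal]
      rw [lvec_down h, map_add, map_smul, map_smul]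
      show (q : ℂ) • Mc P (sgen P s * w) + ((q : ℂ) - 1) • Mc P w = Mc P (sgen P s) * Mc P w
      rw [e, ← mul_assoc, hsq, add_mul, smul_mul_assoc, smul_mul_assoc, one_mul, add_comm]
  exact LinearMap.congr_fun hlin f

theorem Phi_word (l : List P.S) (f : Weyl P → ℂ) :
    Phi P ((l.map (Lm (sys P) (q : ℂ))).prod *ᵥ f) =
      (l.map fun s => Mc P (sgen P s)).prod * Phi P f := by
  induction l with
  | nil => simp
  | cons s l ih =>
    rw [List.map_cons, List.prod_cons, ← Matrix.mulVec_mulVec, Phi_Lm hq, ih, List.map_cons,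
      List.prod_cons, mul_assoc]

omit hq in
theorem Mc_one : Mc P 1 = (1 : Matrix (G ⧸ P.B) (G ⧸ P.B) ℂ) := by
  rw [Mc_eq, FeitHigman.T_one, map_one]

theorem Mc_prod (w : Weyl P) :
    ((rword (sys P) w).map fun s => Mc P (sgen P s)).prod = Mc P w := by
  have h := Phi_word hq (rword (sys P) w) (Pi.single 1 1)
  rw [show Phi P (Pi.single 1 1) = 1 from Mc_one, mul_one] at h
  rw [← h, ← Tm, show Tm (sys P) (q : ℂ) w *ᵥ Pi.single 1 1 = Pi.single w 1 from col_Tm w]
  rfl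

theorem Phi_Tm (w : Weyl P) (f : Weyl P → ℂ) :
    Phi P (Tm (sys P) (q : ℂ) w *ᵥ f) = Mc P w * Phi P f := by
  rw [Tm, Phi_word hq, Mc_prod hq]

theorem Phi_col_mul {x : Matrix (Weyl P) (Weyl P) ℂ} (hx : x ∈ H (sys P) (q : ℂ))
    (y : Matrix (Weyl P) (Weyl P) ℂ) :
    Phi P (col (x * y)) = Phi P (col x) * Phi P (col y) := by
  conv_lhs => rw [col_mul, ← TT_col hx, TT_apply, Matrix.sum_mulVec, map_sum]
  conv_rhs => rw [pi_eq_sum_univ' (col x), map_sum, Finset.sum_mul]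
  refine Finset.sum_congr rfl fun w _ => ?_
  rw [Matrix.smul_mulVec, map_smul, map_smul, Phi_Tm hq, smul_mul_assoc]
  rfl

theorem rowSum_Mc (w : Weyl P) : Mc P w *ᵥ (fun _ => (1 : ℂ)) = fun _ => (q : ℂ) ^ ℓ w := by
  rw [← Mc_prod hq w]
  have key : ∀ l : List P.S, (l.map fun s => Mc P (sgen P s)).prod *ᵥ (fun _ => (1 : ℂ)) =
      fun _ => (q : ℂ) ^ l.length := by
    intro l
    induction l with
    | nil => simp
    | cons s l ih =>
      rw [List.map_cons, List.prod_cons, ← Matrix.mulVec_mulVec, ih]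
      funext x
      simp only [Matrix.mulVec, dotProduct, Mc, Phi_apply, Pi.single_apply, ite_mul, one_mul, zero_mul]
      rw [Finset.sum_ite, Finset.sum_const_zero, add_zero, Finset.sum_const, nsmul_eq_mul,
        FeitHigman.card_nbr, hq, List.length_cons, pow_succ']
  rw [key, rword_length]
  rfl

theorem card_sphere (w : Weyl P) :
    ((Finset.univ.filter fun y : (G ⧸ P.B) => FeitHigman.rel P (x₀ P) y = w).card : ℂ) = (q : ℂ) ^ ℓ w := by
  have h := congrFun (rowSum_Mc hq w) (x₀ P)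
  simp only [Matrix.mulVec, dotProduct, Mc, Phi_apply, Pi.single_apply, mul_one, Finset.sum_boole] at h
  exact h

omit hq

variable [Fintype G] [DecidableEq G] [Fintype P.B]

theorem Aop_invariant {f : G → ℂ} (hf : Cfsg.IsClassFunction G f) (g : G) (x y : (G ⧸ P.B)) :
    Aop f (g • x) (g • y) = Aop f x y := by
  rw [Aop_apply, Aop_apply]
  refine Fintype.sum_equiv (MulAut.conj g⁻¹).toEquiv _ _ fun a => ?_
  simp only [MulEquiv.toEquiv_eq_coe, EquivLike.coe_coe, MulAut.conj_apply, inv_inv, mul_smul,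
    inv_smul_eq_iff]
  rw [show f (g⁻¹ * a * g) = f a by simpa using hf a g⁻¹]

theorem Aop_comm (f : G → ℂ) {Y : Matrix (G ⧸ P.B) (G ⧸ P.B) ℂ} (h : ∀ (g : G) (x y : (G ⧸ P.B)), Y (g • x) (g • y) = Y x y) :
    Aop f * Y = Y * Aop f := by
  ext x z
  simp only [Matrix.mul_apply, Aop_apply, Finset.sum_mul, Finset.mul_sum, ite_mul, mul_ite, zero_mul,
    mul_zero]
  rw [Finset.sum_comm, Finset.sum_comm (s := (Finset.univ : Finset (G ⧸ P.B)))]
  refine Finset.sum_congr rfl fun g _ => ?_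
  rw [Finset.sum_ite_eq _ (g • z) fun j => Y x j * f g, if_pos (Finset.mem_univ _),
    Finset.sum_eq_single (g⁻¹ • x) (fun b _ hb => if_neg fun e => hb (by rw [← e, inv_smul_smul]))
      (fun h => absurd (Finset.mem_univ _) h), if_pos (smul_inv_smul g x)]
  conv_rhs => rw [← smul_inv_smul g x, h]
  ring

theorem sum_smul_base (F : (G ⧸ P.B) → ℂ) :
    ∑ g : G, F (g • x₀ P) = (Nat.card P.B : ℂ) * ∑ p, F p := by
  classical
  rw [← Finset.sum_fiberwise Finset.univ (fun g : G => g • x₀ P), Finset.mul_sum]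
  refine Finset.sum_congr rfl fun p _ => ?_
  rw [Finset.sum_congr rfl fun g hg => by rw [(Finset.mem_filter.1 hg).2], Finset.sum_const, nsmul_eq_mul]
  congr 2
  induction p using QuotientGroup.induction_on with
  | _ k =>
  rw [Nat.card_eq_fintype_card]
  refine (Finset.card_bij (s := (Finset.univ : Finset P.B)) (fun b _ => k * (b : G)) ?_ ?_ ?_).symm.trans Finset.card_univ
  · intro b _
    refine Finset.mem_filter.2 ⟨Finset.mem_univ _, ?_⟩
    show ((k * b * 1 : G) : (G ⧸ P.B)) = (k : (G ⧸ P.B))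
    rw [mul_one, QuotientGroup.eq, show (k * b)⁻¹ * k = (b : G)⁻¹ by group]
    exact inv_mem b.2
  · intro a _ b _ h
    exact Subtype.ext (mul_left_cancel h)
  · intro g hg
    have h : ((g * 1 : G) : (G ⧸ P.B)) = (k : (G ⧸ P.B)) := (Finset.mem_filter.1 hg).2
    rw [mul_one, QuotientGroup.eq] at h
    refine ⟨⟨k⁻¹ * g, ?_⟩, Finset.mem_univ _, mul_inv_cancel_left k g⟩
    simpa using inv_mem h

theorem orbit_sum (p : (G ⧸ P.B)) (F : (G ⧸ P.B) → ℂ) :
    ((Finset.univ.filter fun y : (G ⧸ P.B) => FeitHigman.rel P (x₀ P) y = FeitHigman.rel P (x₀ P) p).card : ℂ) *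
      ∑ b : P.B, F ((b : G) • p) =
    (Nat.card P.B : ℂ) *
      ∑ y ∈ Finset.univ.filter (fun y : (G ⧸ P.B) => FeitHigman.rel P (x₀ P) y = FeitHigman.rel P (x₀ P) p),
        F y := by
  classical
  set O := Finset.univ.filter fun y : (G ⧸ P.B) => FeitHigman.rel P (x₀ P) y = FeitHigman.rel P (x₀ P) p
  have hfix : ∀ g : G, g • x₀ P = x₀ P → g ∈ P.B := by
    intro g h
    have h' : ((g * 1 : G) : (G ⧸ P.B)) = ((1 : G) : (G ⧸ P.B)) := h
    rw [mul_one, QuotientGroup.eq, mul_one] at h'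
    simpa using inv_mem h'
  have hB : ∀ b : P.B, (b : G) • x₀ P = x₀ P := fun b => by
    show (((b : G) * 1 : G) : (G ⧸ P.B)) = ((1 : G) : (G ⧸ P.B))
    rw [mul_one, QuotientGroup.eq, mul_one]
    exact inv_mem b.2
  have hconst : ∀ y ∈ O, ∑ b : P.B, F ((b : G) • y) = ∑ b : P.B, F ((b : G) • p) := by
    intro y hy
    have hy' := (Finset.mem_filter.1 hy).2
    obtain ⟨g, hg1, hg2⟩ := exists_smul_pt P (x₀ P) y
    obtain ⟨g', hg1', hg2'⟩ := exists_smul_pt P (x₀ P) p
    rw [hy'] at hg2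
    set c : P.B := ⟨g, hfix g hg1⟩ * (⟨g', hfix g' hg1'⟩ : P.B)⁻¹
    have hc : y = (c : G) • p := by
      conv_rhs => rw [← hg2']
      simp only [c, Subgroup.coe_mul, Subgroup.coe_inv, ← mul_smul, inv_mul_cancel_right]
      exact hg2.symm
    rw [hc]
    exact Fintype.sum_equiv (Equiv.mulRight c) _ _ fun b => by rw [← mul_smul]; rfl
  have h1 : ∑ y ∈ O, ∑ b : P.B, F ((b : G) • y) = (O.card : ℂ) * ∑ b : P.B, F ((b : G) • p) := by
    rw [Finset.sum_congr rfl hconst, Finset.sum_const, nsmul_eq_mul]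
  have h2 : ∀ b : P.B, ∑ y ∈ O, F ((b : G) • y) = ∑ y ∈ O, F y := by
    intro b
    refine Finset.sum_equiv (MulAction.toPerm (b : G)) (fun y => ?_) fun y _ => rfl
    simp only [O, Finset.mem_filter, Finset.mem_univ, true_and, MulAction.toPerm_apply]
    conv_rhs => rw [← hB b, rel_smul, hB b]
  rw [← h1, Finset.sum_comm, Finset.sum_congr rfl fun b _ => h2 b, Finset.sum_const,
    Finset.card_univ, nsmul_eq_mul, Nat.card_eq_fintype_card]

include hq

theorem Gam_eq_Aop (hq0 : q ≠ 0) {y : Matrix (G ⧸ P.B) (G ⧸ P.B) ℂ}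
    (hy : ∀ (g : G) (a b : (G ⧸ P.B)), y (g • a) (g • b) = y a b) :
    ∃ f : G → ℂ, Cfsg.IsClassFunction G f ∧
      Aop f = ((Nat.card P.B : ℂ) ^ 2) •
        (∑ w, (q : ℂ)⁻¹ ^ ℓ w • (Mc P w * y * Mc P w⁻¹))ᵀ := by
  classical
  set f : G → ℂ := fun k => ∑ h : G, y (x₀ P) ((h⁻¹ * k * h) • x₀ P)
  have hf : Cfsg.IsClassFunction G f := fun g x => by
    refine Fintype.sum_equiv (Equiv.mulLeft x⁻¹) _ _ fun h => ?_
    simp only [Equiv.coe_mulLeft]
    congr 2
    group
  refine ⟨f, hf, ?_⟩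
  set S := ∑ w, (q : ℂ)⁻¹ ^ ℓ w • (Mc P w * y * Mc P w⁻¹) with hS
  have hM : ∀ w (g : G) (a b : (G ⧸ P.B)), Mc P w (g • a) (g • b) = Mc P w a b := fun w g a b =>
    Phi_invariant P _ g a b
  have hMy : ∀ w (g : G) (a b : (G ⧸ P.B)), (Mc P w * y * Mc P w⁻¹) (g • a) (g • b) =
      (Mc P w * y * Mc P w⁻¹) a b := by
    intro w g a b
    simp only [Matrix.mul_apply]
    refine (Fintype.sum_equiv (MulAction.toPerm g) _ _ fun c => ?_).symm
    simp only [MulAction.toPerm_apply, hM]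
    congr 1
    exact Fintype.sum_equiv (MulAction.toPerm g) _ _ fun d => by
      simp only [MulAction.toPerm_apply, hM, hy]
  have hSinv : ∀ (g : G) (a b : (G ⧸ P.B)), S (g • a) (g • b) = S a b := by
    intro g a b
    simp only [hS, Matrix.sum_apply, Matrix.smul_apply, hMy]
  ext a z
  obtain ⟨g, rfl⟩ := MulAction.exists_smul_eq G (x₀ P) z
  rw [← smul_inv_smul g a, Aop_invariant hf, Matrix.smul_apply, Matrix.transpose_apply, hSinv, smul_eq_mul]
  obtain ⟨k, hk⟩ := MulAction.exists_smul_eq G (x₀ P) (g⁻¹ • a)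
  rw [← hk]
  have e1 : Aop f (k • x₀ P) (x₀ P) = ∑ b : P.B, f (k * (b : G)) := by
    rw [Aop_apply, ← Finset.sum_filter]
    refine (Finset.sum_bij (fun (b : P.B) _ => k * (b : G)) ?_ ?_ ?_ fun b _ => rfl).symm
    · intro b _
      refine Finset.mem_filter.2 ⟨Finset.mem_univ _, ?_⟩
      rw [mul_smul]
      congr 1
      show (((b : G) * 1 : G) : (G ⧸ P.B)) = ((1 : G) : (G ⧸ P.B))
      rw [mul_one, QuotientGroup.eq, mul_one]
      exact inv_mem b.2
    · exact fun a _ b _ h => Subtype.ext (mul_left_cancel h)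
    · intro h hh
      have h' : ((h * 1 : G) : (G ⧸ P.B)) = ((k * 1 : G) : (G ⧸ P.B)) := (Finset.mem_filter.1 hh).2
      rw [mul_one, mul_one, QuotientGroup.eq] at h'
      refine ⟨⟨k⁻¹ * h, ?_⟩, Finset.mem_univ _, mul_inv_cancel_left k h⟩
      simpa using inv_mem h'
  have e2 : Aop f (k • x₀ P) (x₀ P) =
      (Nat.card P.B : ℂ) * ∑ p, ∑ b : P.B, y (k⁻¹ • p) ((b : G) • p) := by
    rw [e1, ← sum_smul_base fun p => ∑ b : P.B, y (k⁻¹ • p) ((b : G) • p)]
    rw [Finset.sum_comm]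
    refine Finset.sum_congr rfl fun h _ => Finset.sum_congr rfl fun b _ => ?_
    rw [← hy (k⁻¹ * h) (x₀ P)]
    simp only [← mul_smul]
    congr 2
    group
  have e3 : ∀ p : (G ⧸ P.B), ∑ b : P.B, y (k⁻¹ • p) ((b : G) • p) = (Nat.card P.B : ℂ) *
      ((q : ℂ)⁻¹ ^ ℓ (FeitHigman.rel P (x₀ P) p) *
        ∑ r ∈ Finset.univ.filter (fun r : (G ⧸ P.B) => FeitHigman.rel P (x₀ P) r = FeitHigman.rel P (x₀ P) p),
          y (k⁻¹ • p) r) := by
    intro p
    have h := orbit_sum p (fun r => y (k⁻¹ • p) r)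
    rw [card_sphere hq] at h
    rw [mul_left_comm, ← h, inv_pow, inv_mul_cancel_left₀ (pow_ne_zero _ (Nat.cast_ne_zero.2 hq0))]
  rw [e2, pow_two, mul_assoc]
  congr 1
  rw [Finset.sum_congr rfl fun p _ => e3 p, ← Finset.mul_sum]
  congr 1
  rw [hS, ← Finset.sum_fiberwise Finset.univ (fun p : (G ⧸ P.B) => FeitHigman.rel P (x₀ P) p)]
  simp only [Matrix.sum_apply, Matrix.smul_apply, smul_eq_mul]
  refine Finset.sum_congr rfl fun w _ => ?_
  rw [Finset.sum_congr rfl fun p hp => by rw [(Finset.mem_filter.1 hp).2], ← Finset.mul_sum]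
  congr 1
  rw [Matrix.mul_apply, ← Equiv.sum_comp (MulAction.toPerm k)]
  have hr : ∀ r : (G ⧸ P.B),
      FeitHigman.rel P (k • r) (k • x₀ P) = w⁻¹ ↔ FeitHigman.rel P (x₀ P) r = w := fun r => by
    rw [rel_smul, FeitHigman.rel_symm P (x₀ P) r, inv_inj]
  simp only [MulAction.toPerm_apply, Matrix.mul_apply, Mc, Phi_apply, Pi.single_apply, hr, ite_mul,
    one_mul, zero_mul, mul_ite, mul_one, mul_zero, ← Finset.sum_filter]
  rw [Finset.sum_comm]
  refine Finset.sum_congr rfl fun r _ => Finset.sum_congr rfl fun d _ => ?_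
  conv_rhs => rw [← smul_inv_smul k d, hy]

/-- The constituents of the permutation character on the chambers correspond to the classes of the
Weyl group. -/
theorem card_constituents (hq0 : q ≠ 0) :
    Nat.card {χ : Cfsg.IrrCharacter G //
      ∃ φ : G → ℂ, Cfsg.IsCharacter G φ ∧ Cfsg.fixedPointCharacter P.B = χ.1 + φ} =
      Nat.card (ConjClasses (Weyl P)) := by
  classical
  have hz : finrank ℂ (Zsub (sys P) (q : ℂ)) = Nat.card (ConjClasses (Weyl P)) := by
    have h := finrank_center_complex (E := sys P) (t := (q : ℝ)) (by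
      exact_mod_cast Nat.pos_of_ne_zero hq0)
    rwa [Complex.ofReal_natCast] at h
  have hC : IsUnit (Cm (sys P) (q : ℂ)).det := by
    have h := (isUnit_det_Cm (E := sys P) (t := (q : ℝ)) (by
      exact_mod_cast Nat.pos_of_ne_zero hq0)).map Complex.ofRealHom
    rwa [RingHom.map_det, map_Cm, map_natCast] at h
  have hq' : (q : ℂ) ≠ 0 := Nat.cast_ne_zero.2 hq0
  have himg : Submodule.map (Phi P) (Zsub (sys P) (q : ℂ)) =
      Submodule.map (Aop (G := G) (Ω := (G ⧸ P.B))) classFns := by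
    apply le_antisymm
    · rintro _ ⟨f₀, hf₀, rfl⟩
      set c := (Cm (sys P) (q : ℂ))⁻¹ * TT (sys P) (q : ℂ) f₀
      have hcH : c ∈ H (sys P) (q : ℂ) := mul_mem (inv_mem_H hC) (TT_mem_H f₀)
      have hcc : ∀ i, Lm (sys P) (q : ℂ) i * c = c * Lm (sys P) (q : ℂ) i := fun i => by
        have h1 : Lm (sys P) (q : ℂ) i * Cm (sys P) (q : ℂ) =
            Cm (sys P) (q : ℂ) * Lm (sys P) (q : ℂ) i := by
          rw [← Gam_one]; exact Gam_comm hq' 1 i
        rw [← mul_assoc, inv_comm hC h1, mul_assoc, hf₀ i, ← mul_assoc]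
      have e : Phi P f₀ =
          ∑ w, (q : ℂ)⁻¹ ^ ℓ w • (Mc P w * Phi P (col c) * Mc P w⁻¹) := by
        have e0 : TT (sys P) (q : ℂ) f₀ = Gam (sys P) (q : ℂ) c := by
          rw [Gam_of_central hcc, ← mul_assoc, Matrix.mul_nonsing_inv _ hC, one_mul]
        conv_lhs => rw [← col_TT (E := sys P) (t := (q : ℂ)) f₀, e0, Gam, col, Matrix.sum_mulVec, map_sum]
        refine Finset.sum_congr rfl fun w _ => ?_
        rw [Matrix.smul_mulVec, map_smul, ← col, Phi_col_mul hq (mul_mem (Tm_mem_H w) hcH),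
          Phi_col_mul hq (Tm_mem_H w), col_Tm, col_Tm]
        rfl
      obtain ⟨f, hf, hfe⟩ := Gam_eq_Aop hq hq0 (Phi_invariant P (col c))
      rw [← e] at hfe
      have hcard : (Nat.card P.B : ℂ) ^ 2 ≠ 0 := pow_ne_zero _ (Nat.cast_ne_zero.2 Nat.card_pos.ne')
      refine ⟨((Nat.card P.B : ℂ) ^ 2)⁻¹ • fun g => f g⁻¹,
        Submodule.smul_mem _ _ fun g x => ?_, ?_⟩
      · show f (x * g * x⁻¹)⁻¹ = f g⁻¹
        rw [mul_inv_rev, mul_inv_rev, inv_inv, ← mul_assoc, hf]
      · rw [map_smul, show Aop (Ω := (G ⧸ P.B)) (fun g : G => f g⁻¹) = (Aop f)ᵀ by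
          ext a b
          rw [Matrix.transpose_apply, Aop_apply, Aop_apply]
          refine Fintype.sum_equiv (Equiv.inv G) _ _ fun g => ?_
          simp only [Equiv.inv_apply, inv_smul_eq_iff]
          exact if_congr eq_comm rfl rfl, hfe, Matrix.transpose_smul, Matrix.transpose_transpose,
          inv_smul_smul₀ hcard]
    · rintro _ ⟨f, hf, rfl⟩
      have hA := eq_Phi P (Y := Aop f) fun g x y => Aop_invariant hf g x y
      refine ⟨_, fun i => ?_, hA.symm⟩
      set g₀ : Weyl P → ℂ := fun w => Aop f (x₀ P) (pt P w)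
      refine eq_of_col (mul_mem (Lm_mem_H i) (TT_mem_H g₀)) (mul_mem (TT_mem_H g₀) (Lm_mem_H i))
        (Phi_injective P ?_)
      rw [Phi_col_mul hq (Lm_mem_H i), Phi_col_mul hq (TT_mem_H g₀), col_TT, ← hA]
      exact (Aop_comm f (Phi_invariant P (col (Lm (sys P) (q : ℂ) i)))).symm
  have h1 : finrank ℂ (Submodule.map (Phi P) (Zsub (sys P) (q : ℂ))) =
      finrank ℂ (Zsub (sys P) (q : ℂ)) :=
    (Submodule.equivMapOfInjective _ (Phi_injective P) _).finrank_eq.symm
  rw [himg, finrank_image, hz] at h1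
  rw [← h1]
  refine Nat.card_congr (Equiv.subtypeEquivRight fun χ => ?_)
  exact exists_add_iff (Ω := (G ⧸ P.B)) χ

end CfsgLib.HeckeW
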